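import Groth.Agent.ResProp.EF.K65.Defs

/-!
# Block T, node (T2) and the lifting of the killing module to `ℤ`
-/

set_option autoImplicit false

open MvPolynomial

namespace Groth.Agent.ResProp.EF.K373

open K65

universe u

section Basic

variable {r N : ℕ} {R : Type u} [CommRing R] {S : Type u} [CommRing S] [Algebra R S]

theorem weight_wt (d : Fin r × Fin N →₀ ℕ) (i : Fin r) :
    (Finsupp.weight (wt r N) d) i = ∑ j, d (i, j) := by
  rw [Finsupp.weight_apply, Finsupp.sum_fintype _ _ (by intro i; simp), Finset.sum_apply,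
    Fintype.sum_prod_type]
  simp only [wt, Pi.smul_apply, smul_eq_mul, Pi.single_apply]
  rw [Finset.sum_eq_single i]
  · simp
  · intro b _ hb
    simp [Ne.symm hb]
  · simp

theorem ev_monomial (Y : Matrix (Fin r) (Fin N) S) (d : Fin r × Fin N →₀ ℕ) (a : R) :
    ev Y (monomial d a) = algebraMap R S a * ∏ ij, Y ij.1 ij.2 ^ d ij := by
  rw [ev, aeval_monomial, Finsupp.prod_fintype _ _ (by intro i; simp)]

theorem ev_X (Y : Matrix (Fin r) (Fin N) S) (ij : Fin r × Fin N) : ev (R := R) Y (X ij) = Y ij.1 ij.2 := by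
  rw [ev, aeval_X]

/-- scaling of the rows -/
theorem ev_smul {μ : Fin r → ℕ} {f : P r N R} (hf : MH μ f) (t : Fin r → S) (Y : Matrix (Fin r) (Fin N) S) :
    ev (Matrix.of fun i j => t i * Y i j) f = (∏ i, t i ^ μ i) * ev Y f := by
  conv_lhs => rw [f.as_sum]
  conv_rhs => rw [f.as_sum]
  rw [map_sum, map_sum, Finset.mul_sum]
  refine Finset.sum_congr rfl fun d hd => ?_
  rw [ev_monomial, ev_monomial]
  have h : ∀ i, ∑ j, d (i, j) = μ i := fun i => by
    rw [← weight_wt, hf (mem_support_iff.1 hd)]
  have h1 : ∏ ij : Fin r × Fin N, (t ij.1 * Y ij.1 ij.2) ^ d ij =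
      (∏ i, t i ^ μ i) * ∏ ij : Fin r × Fin N, Y ij.1 ij.2 ^ d ij := by
    simp only [mul_pow]
    rw [Finset.prod_mul_distrib]
    congr 1
    rw [Fintype.prod_prod_type]
    refine Finset.prod_congr rfl fun i _ => ?_
    change ∏ y, t i ^ d (i, y) = t i ^ μ i
    rw [Finset.prod_pow_eq_pow_sum, h]
  simp only [Matrix.of_apply]
  rw [h1]
  ring

/-- the converse: `f` is multihomogeneous as soon as it scales in the right way -/
theorem MH_of_ev_smul {μ : Fin r → ℕ} {f : P r N R}
    (h : ∀ (S : Type u) [CommRing S] [Algebra R S] (t : Fin r → S) (Y : Matrix (Fin r) (Fin N) S),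
      ev (Matrix.of fun i j => t i * Y i j) f = (∏ i, t i ^ μ i) * ev Y f) : MH μ f := by
  classical
  intro d0 hd0
  by_contra hne
  have h1 := h (MvPolynomial (Fin r) (P r N R)) (fun i => X i) ((gen r N R).map C)
  have hrow : ∀ d : Fin r × Fin N →₀ ℕ, (∏ ij : Fin r × Fin N,
      ((X ij.1 : MvPolynomial (Fin r) (P r N R)) * C (X (ij.1, ij.2))) ^ d ij) =
      monomial (Finsupp.equivFunOnFinite.symm (Finsupp.weight (wt r N) d)) (monomial d 1) := by
    intro d
    simp only [mul_pow]
    rw [Finset.prod_mul_distrib, Fintype.prod_prod_type]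
    simp only [Finset.prod_pow_eq_pow_sum, ← weight_wt, ← C_pow]
    rw [← map_prod]
    have e1 : (∏ ij : Fin r × Fin N, (X (ij.1, ij.2) : P r N R) ^ d ij) = monomial d 1 := by
      rw [monomial_eq, C_1, one_mul, Finsupp.prod_fintype _ _ (by intro i; simp)]
    have e2 : (∏ i : Fin r, (X i : MvPolynomial (Fin r) (P r N R)) ^ (Finsupp.weight (wt r N) d) i) =
        monomial (Finsupp.equivFunOnFinite.symm (Finsupp.weight (wt r N) d)) 1 := by
      rw [monomial_eq, C_1, one_mul, Finsupp.prod_fintype _ _ (by intro i; simp)]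
      rfl
    rw [e1, e2, mul_comm, C_mul_monomial, mul_one]
  have h2 : ev (Matrix.of fun i j => (X i : MvPolynomial (Fin r) (P r N R)) * ((gen r N R).map C) i j) f =
      ∑ d ∈ f.support, monomial (Finsupp.equivFunOnFinite.symm (Finsupp.weight (wt r N) d))
        (monomial d (coeff d f)) := by
    conv_lhs => rw [f.as_sum]
    rw [map_sum]
    refine Finset.sum_congr rfl fun d _ => ?_
    rw [ev_monomial]
    have := hrow d
    simp only [Matrix.of_apply, Matrix.map_apply, gen]
    rw [this, ← Algebra.smul_def, smul_monomial, smul_monomial, smul_eq_mul, mul_one]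
  have h3 : (∏ i, (X i : MvPolynomial (Fin r) (P r N R)) ^ μ i) * ev ((gen r N R).map C) f =
      monomial (Finsupp.equivFunOnFinite.symm μ) f := by
    have e2 : (∏ i : Fin r, (X i : MvPolynomial (Fin r) (P r N R)) ^ μ i) =
        monomial (Finsupp.equivFunOnFinite.symm μ) 1 := by
      rw [monomial_eq, C_1, one_mul, Finsupp.prod_fintype _ _ (by intro i; simp)]
      rfl
    have e3 : ev ((gen r N R).map C) f = (C f : MvPolynomial (Fin r) (P r N R)) := by
      have : (ev ((gen r N R).map C) : P r N R →ₐ[R] MvPolynomial (Fin r) (P r N R)) =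
          (Algebra.ofId (P r N R) (MvPolynomial (Fin r) (P r N R))).restrictScalars R := by
        apply MvPolynomial.algHom_ext
        intro ij
        rw [ev_X]
        rfl
      rw [this]
      rfl
    rw [e2, e3, mul_comm, C_mul_monomial, mul_one]
  rw [h2, h3] at h1
  have h4 := congrArg (coeff (Finsupp.equivFunOnFinite.symm (Finsupp.weight (wt r N) d0))) h1
  have h5 := congrArg (coeff d0) h4
  have hne' : Finsupp.equivFunOnFinite.symm μ ≠
      Finsupp.equivFunOnFinite.symm (Finsupp.weight (wt r N) d0) := by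
    intro h
    exact hne (Finsupp.equivFunOnFinite.symm.injective h).symm
  rw [coeff_monomial, if_neg hne', coeff_zero, coeff_sum, coeff_sum, Finset.sum_eq_single d0] at h5
  · rw [coeff_monomial, if_pos rfl, coeff_monomial, if_pos rfl] at h5
    exact hd0 h5
  · intro d _ hd
    rw [coeff_monomial]
    split_ifs
    · rw [coeff_monomial, if_neg hd]
    · rfl
  · intro hd
    rw [mem_support_iff, not_not] at hd
    exact absurd hd hd0

end Basic

section Eval

variable {r N : ℕ} {R : Type u} [CommRing R] {S : Type u} [CommRing S] [Algebra R S]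

theorem ev_taux (q : ℕ) (Y : Matrix (Fin r) (Fin N) S) (F : P (r + 1) N R) :
    ev Y (taux q F) = tau q (ev (consRow X (Y.map C)) F) := by
  have h : (mapAlgHom (ev Y : P r N R →ₐ[R] S)).comp (split (r := r) (N := N) (R := R)) =
      ev (consRow X (Y.map C)) := by
    apply MvPolynomial.algHom_ext
    rintro ⟨i, j⟩
    rw [AlgHom.comp_apply, split, ev_X, ev_X]
    refine Fin.cases ?_ (fun i => ?_) i
    · simp [consRow]
    · simp [consRow, gen, ev_X]
  rw [← h]
  change ev Y (coeff (topE N q) (split F)) =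
    coeff (topE N q) (map ((ev Y : P r N R →ₐ[R] S) : P r N R →+* S) (split F))
  rw [coeff_map]
  rfl

theorem ev_det (q : ℕ) (Y : Matrix (Fin r) (Fin r) S) : ev Y ((gen r r R).det ^ (q - 1)) = Y.det ^ (q - 1) := by
  rw [map_pow, AlgHom.map_det]
  congr 2
  ext i j
  rw [AlgHom.mapMatrix_apply, Matrix.map_apply, gen, Matrix.of_apply, ev_X]

theorem ev_incl (Y : Matrix (Fin (r + 1)) (Fin N) S) (f : P r N R) :
    ev Y (incl f) = ev (Y.submatrix Fin.castSucc id) f := by
  have h : (ev Y).comp (incl (r := r) (N := N) (R := R)) = ev (Y.submatrix Fin.castSucc id) := by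
    apply MvPolynomial.algHom_ext
    rintro ⟨i, j⟩
    rw [AlgHom.comp_apply, incl, ev_X, ev_X, Matrix.of_apply, ev_X]
    rfl
  rw [← h]
  rfl

theorem ev_sig {m : ℕ} (q : ℕ) (Y : Matrix (Fin (m + 1)) (Fin (m + 1)) S) (f : P m (m + 1) R) :
    ev Y (sig q f) = Y.det ^ (q - 1) * ev (Y.submatrix Fin.castSucc id) f := by
  change ev Y ((gen (m + 1) (m + 1) R).det ^ (q - 1) * incl f) = _
  rw [map_mul, ev_det, ev_incl]

theorem ev_EE {m : ℕ} (q : ℕ) (Y : Matrix (Fin m) (Fin (m + 1)) S) (f : P m (m + 1) R) :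
    ev Y (EE q f) = tau q ((consRow X (Y.map C)).det ^ (q - 1) *
      ev ((consRow X (Y.map C)).submatrix Fin.castSucc id) f) := by
  change ev Y (taux q (sig q f)) = _
  rw [ev_taux, ev_sig]

end Eval

section Main

variable {m : ℕ} {R : Type u} [CommRing R]

theorem consRow_zero {r N : ℕ} {S : Type u} (x : Fin N → S) (Y : Matrix (Fin r) (Fin N) S) : consRow x Y 0 = x := rfl

theorem consRow_succ {r N : ℕ} {S : Type u} (x : Fin N → S) (Y : Matrix (Fin r) (Fin N) S) (i : Fin r) :
    consRow x Y i.succ = Y i := rfl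

theorem inv_EE (q a : ℕ) (f : P m (m + 1) R) (hf : Inv (a + 1) f) : Inv a (EE q f) := by
  intro S _ _ Y c i j hij haj
  rw [ev_EE, ev_EE]
  have hW : consRow X ((Y.updateRow j (Y j + c • Y i)).map C) =
      (consRow (X : Fin (m + 1) → MvPolynomial (Fin (m + 1)) S) (Y.map C)).updateRow j.succ
        (consRow X (Y.map C) j.succ + (C c : MvPolynomial (Fin (m + 1)) S) • consRow X (Y.map C) i.succ) := by
    ext1 k l
    refine Fin.cases ?_ (fun k => ?_) k
    · rw [Matrix.updateRow_ne (Fin.succ_ne_zero j).symm]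
      rfl
    · by_cases hk : k = j
      · subst hk
        rw [Matrix.updateRow_self]
        simp [consRow_succ, Matrix.map_apply]
      · rw [Matrix.updateRow_ne (fun h => hk (Fin.succ_injective _ h)), consRow_succ, consRow_succ]
        simp [Matrix.map_apply, Matrix.updateRow_ne hk]
  have hne : j.succ ≠ i.succ := fun h => (Fin.succ_injective _ h ▸ hij).ne rfl
  rw [hW, Matrix.det_updateRow_add_smul_self _ hne]
  have key : ev (((consRow (X : Fin (m + 1) → MvPolynomial (Fin (m + 1)) S) (Y.map C)).updateRow j.succ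
        (consRow X (Y.map C) j.succ + (C c : MvPolynomial (Fin (m + 1)) S) • consRow X (Y.map C) i.succ)).submatrix
          Fin.castSucc id) f = ev ((consRow X (Y.map C)).submatrix Fin.castSucc id) f := by
    by_cases hjm : (j : ℕ) + 1 < m
    · have hj' : j.succ = Fin.castSucc (⟨j + 1, hjm⟩ : Fin m) := rfl
      have hi' : i.succ = Fin.castSucc (⟨i + 1, by omega⟩ : Fin m) := rfl
      have h := hf (MvPolynomial (Fin (m + 1)) S) ((consRow X (Y.map C)).submatrix Fin.castSucc id) (C c)
        ⟨i + 1, by omega⟩ ⟨j + 1, hjm⟩ (by rw [Fin.lt_def]; exact Nat.succ_lt_succ hij) (Nat.succ_le_succ haj)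
      rw [← h]
      have hM : ((consRow (X : Fin (m + 1) → MvPolynomial (Fin (m + 1)) S) (Y.map C)).updateRow j.succ
        (consRow X (Y.map C) j.succ + (C c : MvPolynomial (Fin (m + 1)) S) • consRow X (Y.map C) i.succ)).submatrix
          Fin.castSucc id = ((consRow X (Y.map C)).submatrix Fin.castSucc id).updateRow ⟨j + 1, hjm⟩
            ((consRow X (Y.map C)).submatrix Fin.castSucc id ⟨j + 1, hjm⟩ +
              (C c : MvPolynomial (Fin (m + 1)) S) • (consRow X (Y.map C)).submatrix Fin.castSucc id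
                ⟨i + 1, by omega⟩) := by
        rw [hj', hi']
        ext1 k l
        by_cases hk : k = ⟨j + 1, hjm⟩
        · subst hk
          rw [Matrix.updateRow_self, Matrix.submatrix_apply, Matrix.updateRow_self]
          rfl
        · rw [Matrix.updateRow_ne hk, Matrix.submatrix_apply,
            Matrix.updateRow_ne (fun h => hk (Fin.castSucc_injective _ h))]
          rfl
      rw [hM]
    · have hM : ((consRow (X : Fin (m + 1) → MvPolynomial (Fin (m + 1)) S) (Y.map C)).updateRow j.succ
        (consRow X (Y.map C) j.succ + (C c : MvPolynomial (Fin (m + 1)) S) • consRow X (Y.map C) i.succ)).submatrix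
          Fin.castSucc id = (consRow X (Y.map C)).submatrix Fin.castSucc id := by
        ext1 k l
        rw [Matrix.submatrix_apply, Matrix.updateRow_ne]
        · rfl
        · intro h
          have := congrArg Fin.val h
          simp only [Fin.val_castSucc, Fin.val_succ] at this
          omega
      rw [hM]
  rw [key]

theorem MH_EE (q : ℕ) (f : P m (m + 1) R) (hf : MH (mu m q) f) : MH (mu m q) (EE q f) := by
  apply MH_of_ev_smul
  intro S _ _ t Y
  rw [ev_EE, ev_EE]
  let tt : Fin (m + 1) → MvPolynomial (Fin (m + 1)) S := Fin.cons 1 (fun i => C (t i))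
  have tt0 : tt 0 = 1 := rfl
  have tts : ∀ i : Fin m, tt i.succ = C (t i) := fun i => rfl
  have hW : consRow X ((Matrix.of fun i j => t i * Y i j).map C) =
      Matrix.of fun i j => tt i * consRow X (Y.map C) i j := by
    ext1 k l
    refine Fin.cases ?_ (fun k => ?_) k
    · rw [Matrix.of_apply, tt0, one_mul]
      rfl
    · rw [Matrix.of_apply, tts, consRow_succ, consRow_succ]
      simp [Matrix.map_apply]
  have hdet : (Matrix.of fun i j => tt i * consRow X (Y.map C) i j).det =
      C (∏ i, t i) * (consRow X (Y.map C)).det := by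
    rw [Matrix.det_mul_column, Fin.prod_univ_succ, tt0, one_mul, map_prod]
    rfl
  have hsub : (Matrix.of fun i j => tt i * consRow X (Y.map C) i j).submatrix Fin.castSucc id =
      Matrix.of fun (i : Fin m) j => tt i.castSucc * (consRow X (Y.map C)).submatrix Fin.castSucc id i j := rfl
  rw [hW, hdet, hsub, ev_smul hf]
  have hprod : (∏ i : Fin m, tt i.castSucc ^ mu m q i) * C (∏ i, t i) ^ (q - 1) = C (∏ i, t i ^ mu m q i) := by
    have h1 : ∏ i : Fin m, tt i.castSucc ^ mu m q i =
        ∏ i : Fin (m + 1), tt i ^ ((m - (i : ℕ)) * (q - 1)) := by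
      rw [Fin.prod_univ_castSucc]
      simp [mu]
    rw [h1, Fin.prod_univ_succ, tt0, one_pow, one_mul, map_prod, map_prod, ← Finset.prod_pow,
      ← Finset.prod_mul_distrib]
    refine Finset.prod_congr rfl fun i _ => ?_
    rw [tts, ← pow_add, ← map_pow, mu, Fin.val_succ]
    congr 2
    have : m - (i : ℕ) = (m - (i + 1)) + 1 := by omega
    rw [this, add_mul, one_mul]
  have : (C (∏ i, t i) * (consRow X (Y.map C)).det) ^ (q - 1) *
      ((∏ i : Fin m, tt i.castSucc ^ mu m q i) * ev ((consRow X (Y.map C)).submatrix Fin.castSucc id) f) =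
      C (∏ i, t i ^ mu m q i) * ((consRow X (Y.map C)).det ^ (q - 1) *
        ev ((consRow X (Y.map C)).submatrix Fin.castSucc id) f) := by
    rw [← hprod, mul_pow]
    ring
  rw [this, ← smul_eq_C_mul, map_smul, smul_eq_mul]

/-- (T2) -/
theorem t2 : T2.{u} := fun _ _ _ q f hf => ⟨MH_EE q f hf, fun a ha => inv_EE q a f ha⟩

end Main

end Groth.Agent.ResProp.EF.K373
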