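import Groth.Agent.ResProp.EF.K624.Nodes

/-!
# G2b, node J8: the coordinate ring of a one step extension
-/

set_option autoImplicit false

universe u

open TensorProduct

noncomputable section

namespace Groth.Agent.ResProp.EF.K373

open Groth.Agent.ResProp.EF.Grp Groth.Agent.ResProp.EF.K624

/-! ### `A^nat` is an ideal, functorial -/

theorem isNat_zero {A : Type u} [CommRing A] : IsNat (0 : A) := by
  intro n
  rcases n with _ | n
  · simp
  · simp

theorem isNat_add {A : Type u} [CommRing A] {a b : A} (ha : IsNat a) (hb : IsNat b) : IsNat (a + b) := by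
  intro n
  rw [add_pow]
  refine Finset.dvd_sum fun i hi => ?_
  have hi' : i ≤ n := Nat.lt_succ_iff.1 (Finset.mem_range.1 hi)
  obtain ⟨a', ha'⟩ := ha i
  obtain ⟨b', hb'⟩ := hb (n - i)
  rw [ha', hb']
  refine ⟨a' * b', ?_⟩
  have h := Nat.choose_mul_factorial_mul_factorial hi'
  rw [← h]
  push_cast
  ring

theorem isNat_mul_left {A : Type u} [CommRing A] (c : A) {a : A} (ha : IsNat a) : IsNat (c * a) := by
  intro n
  rw [mul_pow]
  exact Dvd.dvd.mul_left (ha n) _

theorem isNat_map {A B : Type u} [CommRing A] [CommRing B] (f : A →+* B) {a : A} (ha : IsNat a) : IsNat (f a) := by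
  intro n
  rw [← map_natCast f, ← map_pow]
  exact map_dvd f (ha n)

theorem isNat_sum {A : Type u} [CommRing A] {ι : Type*} (s : Finset ι) (f : ι → A) (h : ∀ i ∈ s, IsNat (f i)) :
    IsNat (∑ i ∈ s, f i) := by
  classical
  induction s using Finset.induction_on with
  | empty => exact isNat_zero
  | insert a s ha ih =>
    rw [Finset.sum_insert ha]
    exact isNat_add (h _ (Finset.mem_insert_self _ _)) (ih fun i hi => h i (Finset.mem_insert_of_mem hi))

variable {k : Type u} [CommRing k]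

theorem isNat_smul {A : Type u} [CommRing A] [Algebra k A] (c : k) {a : A} (ha : IsNat a) : IsNat (c • a) := by
  rw [Algebra.smul_def]
  exact isNat_mul_left _ ha

theorem tf_of_free (p : ℕ) (k : Type u) [CommRing k] [IsLb p k] (A : Type u) [CommRing A] [Algebra k A] [Module.Free k A] : TF A := by
  have := IsLb.dom p (k := k)
  have := IsLb.char0 p (k := k)
  intro n hn a b hab
  have h : (n : k) • (a - b) = 0 := by
    rw [smul_sub, Nat.cast_smul_eq_nsmul, Nat.cast_smul_eq_nsmul, sub_eq_zero]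
    exact hab
  have hn' : (n : k) ≠ 0 := Nat.cast_ne_zero.2 hn
  exact sub_eq_zero.1 ((smul_eq_zero_iff_right hn').1 h)

/-! ### coefficients -/

section Coef

variable {V : Type u} [AddCommGroup V] [Module k V] {A B : Type u} [CommRing A] [Algebra k A] [CommRing B]
  [Algebra k B]

theorem coef1_tmul (f : V →ₗ[k] k) (v : V) (a : A) : coef1 (k := k) f (v ⊗ₜ[k] a) = f v • a := by
  rw [coef1, LinearMap.comp_apply, LinearMap.rTensor_tmul]
  rfl

theorem coef1_lTensor (f : V →ₗ[k] k) (h : A →ₐ[k] B) (x : V ⊗[k] A) :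
    coef1 (k := k) f (h.toLinearMap.lTensor V x) = h (coef1 (k := k) f x) := by
  induction x with
  | zero => simp
  | add x y hx hy => simp only [map_add, hx, hy]
  | tmul v a =>
    rw [LinearMap.lTensor_tmul, coef1_tmul, coef1_tmul, map_smul]
    rfl

theorem sum_coef1 {n : ℕ} (b : Module.Basis (Fin n) k V) (x : V ⊗[k] A) :
    ∑ i, b i ⊗ₜ[k] coef1 (k := k) (b.coord i) x = x := by
  induction x with
  | zero => simp
  | add x y hx hy =>
    conv_rhs => rw [← hx, ← hy]
    simp only [map_add, TensorProduct.tmul_add, Finset.sum_add_distrib]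
  | tmul v a =>
    conv_rhs => rw [← b.sum_repr v, TensorProduct.sum_tmul]
    refine Finset.sum_congr rfl fun i _ => ?_
    rw [coef1_tmul, TensorProduct.tmul_smul, TensorProduct.smul_tmul']
    rfl

end Coef

/-- J8 -/
theorem oneStepEquiv (p : ℕ) [IsLb p k] (E : Gp k) : OneStepEquiv E := by
  intro S n b D
  have hA : TF S.E'.O := tf_of_free p k S.E'.O
  have hB : TF (E.O ⊗[k] D.P) := tf_of_free p k (E.O ⊗[k] D.P)
  -- `y`
  let y : S.V.V ⊗[k] (E.O ⊗[k] D.P) := ∑ i, b i ⊗ₜ[k] ((1 : E.O) ⊗ₜ[k] D.x i)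
  have hnat : ∀ i, IsNat ((1 : E.O) ⊗ₜ[k] D.x i) := fun i =>
    isNat_map (Algebra.TensorProduct.includeRight : D.P →ₐ[k] E.O ⊗[k] D.P).toRingHom (D.nx i)
  have hy : ∀ f : S.V.V →ₗ[k] k, IsNat (coef1 (k := k) f y) := by
    intro f
    rw [map_sum]
    refine isNat_sum _ _ fun i _ => ?_
    rw [coef1_tmul]
    exact isNat_smul _ (hnat i)
  have hcy : ∀ i, coef1 (k := k) (b.coord i) y = (1 : E.O) ⊗ₜ[k] D.x i := by
    intro i
    rw [map_sum, Finset.sum_eq_single i]
    · rw [coef1_tmul, Module.Basis.coord_apply, Module.Basis.repr_self, Finsupp.single_eq_same, one_smul]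
    · intro j _ hj
      rw [coef1_tmul, Module.Basis.coord_apply, Module.Basis.repr_self, Finsupp.single_eq_of_ne (Ne.symm hj),
        zero_smul]
    · intro h
      exact absurd (Finset.mem_univ i) h
  obtain ⟨h, ⟨hι, hx⟩, -⟩ := S.univ (E.O ⊗[k] D.P) hB Algebra.TensorProduct.includeLeft y hy
  obtain ⟨d, hd, -⟩ := D.univ S.E'.O hA (fun i => coef1 (k := k) (b.coord i) S.x) (fun i => S.nx _)
  let m : E.O ⊗[k] D.P →ₐ[k] S.E'.O := Algebra.TensorProduct.lift (S.ι : E.O →ₐ[k] S.E'.O) d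
    (fun _ _ => Commute.all _ _)
  have hm1 : ∀ a : E.O, m (a ⊗ₜ 1) = S.ι a := fun a => by
    simp [m]
  have hm2 : ∀ a : D.P, m (1 ⊗ₜ a) = d a := fun a => by
    simp [m]
  have hι' : ∀ a : E.O, h (S.ι a) = a ⊗ₜ 1 := fun a => AlgHom.congr_fun hι a
  -- `m ∘ h = id`
  have hmh : m.comp h = AlgHom.id k S.E'.O := by
    obtain ⟨w, -, hw⟩ := S.univ S.E'.O hA (S.ι : E.O →ₐ[k] S.E'.O) S.x S.nx
    rw [hw (m.comp h) ⟨?_, ?_⟩, hw (AlgHom.id k S.E'.O) ⟨?_, ?_⟩]
    · rfl
    · simp
    · ext a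
      change m (h (S.ι a)) = S.ι a
      rw [hι', hm1]
    · change ((m.toLinearMap ∘ₗ h.toLinearMap).lTensor S.V.V) S.x = S.x
      rw [LinearMap.lTensor_comp, LinearMap.comp_apply, hx, map_sum]
      conv_rhs => rw [← sum_coef1 b S.x]
      refine Finset.sum_congr rfl fun i _ => ?_
      rw [LinearMap.lTensor_tmul]
      change b i ⊗ₜ[k] m (1 ⊗ₜ D.x i) = _
      rw [hm2, hd]
  -- `h ∘ m = id`
  have hhm : h.comp m = AlgHom.id k (E.O ⊗[k] D.P) := by
    apply Algebra.TensorProduct.ext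
    · ext a
      change h (m (a ⊗ₜ 1)) = a ⊗ₜ 1
      rw [hm1, hι']
    · obtain ⟨w, -, hw⟩ := D.univ (E.O ⊗[k] D.P) hB (fun i => (1 : E.O) ⊗ₜ[k] D.x i) hnat
      have e1 := hw (h.comp d) (fun i => by
        change h (d (D.x i)) = _
        rw [hd, ← coef1_lTensor, hx, hcy])
      have e2 := hw Algebra.TensorProduct.includeRight (fun i => rfl)
      ext a
      change h (m (1 ⊗ₜ a)) = 1 ⊗ₜ a
      rw [hm2]
      have e3 := AlgHom.congr_fun (e1.trans e2.symm) a
      exact e3
  refine ⟨AlgEquiv.ofAlgHom h m hhm hmh, fun a => hι' a, ?_⟩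
  exact hx

end Groth.Agent.ResProp.EF.K373
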