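import Groth.Agent.ResProp.EF.K743.Iface
import Mathlib.RingTheory.Polynomial.Basic
import Mathlib.Algebra.MvPolynomial.Eval
import Mathlib.RingTheory.TensorProduct.Maps
import Mathlib.Order.Filter.AtTopBot.Basic

/-!
# G1B-D: the choice of `m` (`StmtMData`)
-/

set_option autoImplicit false

universe u

open Groth.Agent.Grpsch.AffGrpd Groth.Agent.ResProp.EF.K743 MvPolynomial TensorProduct

namespace Groth.Agent.ResProp.EF.K373

/-- a monomial of degree `≤ m` as an ordered word of length `m` -/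
theorem exists_word {n : ℕ} (j0 : Fin n) : ∀ (m : ℕ) (α : Fin n →₀ ℕ), α.degree ≤ m →
    ∃ J : Fin m → Fin n, ∀ (T : Type u) [CommRing T] (v : Fin n → T), v j0 = 1 →
      ∏ i, v (J i) = ∏ j, v j ^ α j := by
  intro m
  induction m with
  | zero =>
    intro α hα
    have h0 : α = 0 := by
      rw [← Finsupp.degree_eq_zero_iff]
      omega
    subst h0
    exact ⟨Fin.elim0, fun T _ v _ => by simp⟩
  | succ m ih =>
    intro α hα
    by_cases h : α.degree ≤ m
    · obtain ⟨J, hJ⟩ := ih α h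
      refine ⟨Fin.cons j0 J, fun T _ v hv => ?_⟩
      rw [Fin.prod_univ_succ, Fin.cons_zero, hv, one_mul]
      simpa using hJ T v hv
    · have hne : α ≠ 0 := by
        rintro rfl
        simp at h
      obtain ⟨j, hj⟩ := Finsupp.ne_iff.1 hne
      rw [Finsupp.zero_apply] at hj
      obtain ⟨α', rfl⟩ : ∃ α', α = α' + Finsupp.single j 1 :=
        ⟨α - Finsupp.single j 1, (tsub_add_cancel_of_le (by
          intro i
          by_cases hi : i = j
          · subst hi
            simp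
            omega
          · rw [Finsupp.single_eq_of_ne hi]
            exact Nat.zero_le _)).symm⟩
      obtain ⟨J, hJ⟩ := ih α' (by
        rw [map_add, Finsupp.degree_single] at hα
        omega)
      refine ⟨Fin.cons j J, fun T _ v hv => ?_⟩
      rw [Fin.prod_univ_succ, Fin.cons_zero]
      have h1 : ∏ i : Fin m, v ((Fin.cons j J : Fin (m + 1) → Fin n) i.succ) = ∏ j, v j ^ α' j := by
        simpa using hJ T v hv
      rw [h1]
      have h2 : ∀ i, v i ^ (α' + Finsupp.single j 1 : Fin n →₀ ℕ) i = v i ^ α' i * (if i = j then v j else 1) := by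
        intro i
        by_cases hi : i = j
        · subst hi
          rw [Finsupp.add_apply, Finsupp.single_eq_same, pow_succ, if_pos rfl]
        · rw [Finsupp.add_apply, Finsupp.single_eq_of_ne hi, add_zero, if_neg hi, mul_one]
      simp only [h2, Finset.prod_mul_distrib, Finset.prod_ite_eq', Finset.mem_univ, if_true]
      ring

/-- homogenization -/
theorem exists_hom {A : Type u} [CommRing A] {n : ℕ} (j0 : Fin n) (P : MvPolynomial (Fin n) A) (m : ℕ)
    (hP : P.totalDegree ≤ m) : ∃ F : (Fin m → Fin n) → A, ∀ (T : Type u) [CommRing T] (a : A →+* T)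
      (v : Fin n → T), v j0 = 1 → eval₂ a v P = ∑ J, a (F J) * ∏ i, v (J i) := by
  classical
  have hw : ∀ α ∈ P.support, ∃ J : Fin m → Fin n, ∀ (T : Type u) [CommRing T] (v : Fin n → T), v j0 = 1 →
      ∏ i, v (J i) = ∏ j, v j ^ α j := fun α hα =>
    exists_word j0 m α ((le_totalDegree hα).trans hP)
  have : Nonempty (Fin m → Fin n) := ⟨fun _ => j0⟩
  choose! J hJ using hw
  refine ⟨fun K => ∑ α ∈ P.support, if J α = K then coeff α P else 0, fun T _ a v hv => ?_⟩
  rw [eval₂_eq']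
  simp only [map_sum, Finset.sum_mul]
  rw [Finset.sum_comm]
  refine Finset.sum_congr rfl fun α hα => ?_
  rw [Finset.sum_eq_single (J α)]
  · rw [if_pos rfl, hJ α hα T v hv]
  · intro K _ hK
    rw [if_neg (Ne.symm hK), map_zero, zero_mul]
  · intro h
    exact absurd (Finset.mem_univ _) h

section

variable {A Γ : Type u} [CommRing A] [CommRing Γ] (G : RGrpd A Γ) (X : Gens G)

/-- `A[X] → Γ` -/
noncomputable def ppi : MvPolynomial (Fin X.n) A →+* Γ := eval₂Hom G.s X.x

theorem ppi_surjective : Function.Surjective (ppi G X) := by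
  rw [← RingHom.range_eq_top, eq_top_iff, ← X.gen, Subring.closure_le]
  rintro _ (⟨a, rfl⟩ | ⟨j, rfl⟩)
  · exact ⟨C a, by simp [ppi]⟩
  · exact ⟨MvPolynomial.X j, by simp [ppi]⟩

theorem ev_elt (γ : Γ) : ∀ᶠ m in Filter.atTop, ∃ F : (Fin m → Fin X.n) → A, γ = ∑ J, G.s (F J) * X.mon J := by
  obtain ⟨P, rfl⟩ := ppi_surjective G X γ
  filter_upwards [Filter.eventually_ge_atTop P.totalDegree] with m hm
  obtain ⟨F, hF⟩ := exists_hom X.j0 P m hm
  exact ⟨F, hF Γ G.s X.x X.hx0⟩

theorem ev_pres (hA : IsNoetherianRing A) : ∀ᶠ m in Filter.atTop, ∀ (T : Type u) [CommRing T] (a : A →+* T)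
    (v : Fin X.n → T), v X.j0 = 1 →
    (∀ F : (Fin m → Fin X.n) → A, ∑ J, G.s (F J) * X.mon J = 0 → ∑ J, a (F J) * ∏ i, v (J i) = 0) →
    ∃ h : Γ →+* T, h.comp G.s = a ∧ ∀ j, h (X.x j) = v j := by
  obtain ⟨S, hS⟩ := (isNoetherianRing_iff_ideal_fg _).1 (inferInstance : IsNoetherianRing (MvPolynomial (Fin X.n) A))
    (RingHom.ker (ppi G X))
  have h1 : ∀ᶠ m in Filter.atTop, ∀ P ∈ S, P.totalDegree ≤ m :=
    (Filter.eventually_all_finset S).2 fun P _ => Filter.eventually_ge_atTop _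
  filter_upwards [h1] with m hm
  intro T _ a v hv h
  have hker : RingHom.ker (ppi G X) ≤ RingHom.ker (eval₂Hom a v) := by
    rw [← hS, Ideal.span_le]
    intro P hP
    have hP0 : ppi G X P = 0 := by
      rw [← RingHom.mem_ker, ← hS]
      exact Ideal.subset_span hP
    obtain ⟨F, hF⟩ := exists_hom X.j0 P m (hm P hP)
    change eval₂ a v P = 0
    rw [hF T a v hv]
    apply h
    exact (hF Γ G.s X.x X.hx0).symm.trans hP0
  let h' : Γ →+* T := (RingHom.liftOfSurjective (ppi G X) (ppi_surjective G X)) ⟨eval₂Hom a v, hker⟩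
  have h2 : ∀ P, h' (ppi G X P) = eval₂ a v P := fun P => by
    exact RingHom.liftOfRightInverse_comp_apply _ _ _ ⟨eval₂Hom a v, hker⟩ P
  refine ⟨h', ?_, fun j => ?_⟩
  · ext c
    have := h2 (C c)
    simpa [ppi] using this
  · have := h2 (MvPolynomial.X j)
    simpa [ppi] using this

theorem ev_tens : letI := G.s.toAlgebra; ∀ τ : Γ ⊗[A] Γ, ∀ᶠ m in Filter.atTop,
    ∃ B : (Fin m → Fin X.n) → (Fin m → Fin X.n) → A,
      τ = ∑ J, ∑ K, (B J K) • (X.mon J ⊗ₜ[A] X.mon K) := by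
  letI := G.s.toAlgebra
  intro τ
  induction τ with
  | zero => exact Filter.Eventually.of_forall fun m => ⟨fun _ _ => 0, by simp⟩
  | add x y hx hy =>
    filter_upwards [hx, hy] with m hx hy
    obtain ⟨B, hB⟩ := hx
    obtain ⟨B', hB'⟩ := hy
    refine ⟨fun J K => B J K + B' J K, ?_⟩
    rw [hB, hB']
    simp only [add_smul, Finset.sum_add_distrib]
  | tmul x y =>
    filter_upwards [ev_elt G X x, ev_elt G X y] with m hx hy
    obtain ⟨F, hF⟩ := hx
    obtain ⟨F', hF'⟩ := hy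
    refine ⟨fun J K => F J * F' K, ?_⟩
    rw [hF, hF', TensorProduct.sum_tmul]
    refine Finset.sum_congr rfl fun J _ => ?_
    rw [TensorProduct.tmul_sum]
    refine Finset.sum_congr rfl fun K _ => ?_
    have e1 : G.s (F J) * X.mon J = F J • X.mon J := (Algebra.smul_def _ _).symm
    have e2 : G.s (F' K) * X.mon K = F' K • X.mon K := (Algebra.smul_def _ _).symm
    rw [e1, e2, TensorProduct.smul_tmul_smul]

/-- the composite `h₂ ∘ h₁⁻¹` -/
theorem ev_be (γ : Γ) : ∀ᶠ m in Filter.atTop, ∃ B : (Fin m → Fin X.n) → (Fin m → Fin X.n) → A,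
    ∀ {T : Type u} [CommRing T] (h₁ h₂ : Γ →+* T) (hs : h₂.comp G.s = (h₁.comp G.i).comp G.t),
      G.comp h₂ (h₁.comp G.i) hs γ = ∑ J, ∑ K, h₁ (G.s (B J K)) * h₁ (X.mon J) * h₂ (X.mon K) := by
  letI := G.s.toAlgebra
  let i₁ : Γ →+* Γ ⊗[A] Γ := (Algebra.TensorProduct.includeLeft : Γ →ₐ[A] Γ ⊗[A] Γ).toRingHom
  let i₂ : Γ →+* Γ ⊗[A] Γ := (Algebra.TensorProduct.includeRight : Γ →ₐ[A] Γ ⊗[A] Γ).toRingHom
  have hi : i₂.comp G.s = (i₁.comp G.i).comp G.t := by
    rw [RingHom.comp_assoc, G.i_t]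
    ext a
    exact ((Algebra.TensorProduct.includeRight : Γ →ₐ[A] Γ ⊗[A] Γ).commutes a).trans
      ((Algebra.TensorProduct.includeLeft : Γ →ₐ[A] Γ ⊗[A] Γ).commutes a).symm
  filter_upwards [ev_tens G X (G.comp i₂ (i₁.comp G.i) hi γ)] with m hm
  obtain ⟨B, hB⟩ := hm
  refine ⟨B, fun {T} _ h₁ h₂ hs => ?_⟩
  have hs' : h₂.comp G.s = h₁.comp G.s := by
    rw [hs, RingHom.comp_assoc, G.i_t]
  letI : Algebra A T := (h₁.comp G.s).toAlgebra
  let f₁ : Γ →ₐ[A] T := { h₁ with commutes' := fun a => rfl }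
  let f₂ : Γ →ₐ[A] T := { h₂ with commutes' := fun a => RingHom.congr_fun hs' a }
  let f : Γ ⊗[A] Γ →ₐ[A] T := Algebra.TensorProduct.lift f₁ f₂ (fun _ _ => Commute.all _ _)
  have e1 : f.toRingHom.comp i₁ = h₁ := by
    ext a
    change f (a ⊗ₜ 1) = _
    simp [f, f₁]
  have e2 : f.toRingHom.comp i₂ = h₂ := by
    ext a
    change f (1 ⊗ₜ a) = _
    simp [f, f₂]
  have h := G.comp_nat f.toRingHom i₂ (i₁.comp G.i) hi
  have h3 : G.comp h₂ (h₁.comp G.i) hs = G.comp (f.toRingHom.comp i₂) (f.toRingHom.comp (i₁.comp G.i))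
      (by rw [RingHom.comp_assoc, hi]; rfl) := by
    congr 1
    · exact e2.symm
    · rw [← RingHom.comp_assoc, e1]
  rw [h3, ← h, RingHom.comp_apply, hB]
  change f _ = _
  rw [map_sum]
  refine Finset.sum_congr rfl fun J _ => ?_
  rw [map_sum]
  refine Finset.sum_congr rfl fun K _ => ?_
  rw [map_smul, Algebra.smul_def]
  change h₁ (G.s (B J K)) * f (X.mon J ⊗ₜ X.mon K) = _
  rw [Algebra.TensorProduct.lift_tmul, mul_assoc]
  rfl

end

/-- **D** -/
theorem stmtMData : StmtMData.{u} := by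
  intro 𝕜 A Γ _ _ _ _ G X hst hA hft _ _
  -- generators of `A`
  obtain ⟨S, hS⟩ := hft.out
  let na := S.card
  let a : Fin na → A := fun i => (S.equivFin.symm i : A)
  have ha : Set.range a = (S : Set A) := by
    ext z
    constructor
    · rintro ⟨i, rfl⟩
      exact (S.equivFin.symm i).2
    · intro hz
      exact ⟨S.equivFin ⟨z, hz⟩, by simp [a]⟩
  have ha' : Algebra.adjoin 𝕜 (Set.range a) = ⊤ := by rw [ha, hS]
  let e : Fin (X.n + na) → Γ := Fin.append X.x (fun i => G.s (a i))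
  have he : Subring.closure (Set.range (G.s.comp (algebraMap 𝕜 A)) ∪ Set.range e) = ⊤ := by
    rw [eq_top_iff, ← X.gen, Subring.closure_le]
    have hx : ∀ j, X.x j ∈ Subring.closure (Set.range (G.s.comp (algebraMap 𝕜 A)) ∪ Set.range e) := fun j =>
      Subring.subset_closure (Or.inr ⟨Fin.castAdd na j, by simp [e]⟩)
    have hsa : ∀ b : A, G.s b ∈ Subring.closure (Set.range (G.s.comp (algebraMap 𝕜 A)) ∪ Set.range e) := by
      intro b
      have hb : b ∈ Algebra.adjoin 𝕜 (Set.range a) := ha' ▸ Algebra.mem_top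
      induction hb using Algebra.adjoin_induction with
      | mem x hx =>
        obtain ⟨i, rfl⟩ := hx
        exact Subring.subset_closure (Or.inr ⟨Fin.natAdd X.n i, by simp [e]⟩)
      | algebraMap r => exact Subring.subset_closure (Or.inl ⟨r, rfl⟩)
      | add x y _ _ hx hy => rw [map_add]; exact Subring.add_mem _ hx hy
      | mul x y _ _ hx hy => rw [map_mul]; exact Subring.mul_mem _ hx hy
    rintro _ (⟨b, rfl⟩ | ⟨j, rfl⟩)
    · exact hsa b
    · exact hx j
  have h1 := ev_pres G X hA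
  have h2 : ∀ᶠ m in Filter.atTop, ∀ i : Fin na, ∃ F : (Fin m → Fin X.n) → A,
      G.t (a i) = ∑ J, G.s (F J) * X.mon J := Filter.eventually_all.2 fun i => ev_elt G X (G.t (a i))
  have h3 : ∀ᶠ m in Filter.atTop, ∀ i : Fin (X.n + na), ∃ B : (Fin m → Fin X.n) → (Fin m → Fin X.n) → A,
      ∀ {T : Type u} [CommRing T] (h₁ h₂ : Γ →+* T) (hs : h₂.comp G.s = (h₁.comp G.i).comp G.t),
        G.comp h₂ (h₁.comp G.i) hs (e i) = ∑ J, ∑ K, h₁ (G.s (B J K)) * h₁ (X.mon J) * h₂ (X.mon K) :=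
    Filter.eventually_all.2 fun i => ev_be G X (e i)
  have h4 : ∀ᶠ m in Filter.atTop, ∀ kj : Fin X.n × Fin X.n, ∃ F : (Fin m → Fin X.n) → A,
      G.i (X.c kj.1 kj.2) = ∑ J, G.s (F J) * X.mon J :=
    Filter.eventually_all.2 fun kj => ev_elt G X (G.i (X.c kj.1 kj.2))
  obtain ⟨m, ⟨h1, h2⟩, h3, h4⟩ := ((h1.and h2).and (h3.and h4)).exists
  choose al hal using h2
  choose be hbe using h3
  choose et het using h4
  exact ⟨{
    m := m
    pres := h1
    na := na
    a := a
    ha := ha'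
    al := al
    hal := hal
    ne := X.n + na
    e := e
    he := he
    be := be
    hbe := fun {T} _ h₁ h₂ hs i => hbe i h₁ h₂ hs
    et := fun k j => et (k, j)
    het := fun k j => het (k, j) }⟩

end Groth.Agent.ResProp.EF.K373
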